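import Cfsg.Agent.H650.E27Central
import Cfsg.Agent.H734.KB.Crit
import Cfsg.Agent.H642.SolvRank
import Cfsg.Agent.J2Type.SylowSeven

/-!
# S4879, row `Th`, `p = 7` (helper642): `l(B₀(C_G(x))) ≤ 3`

`rank_cent_le` : `|C_G(x)| = 1176 = 8 · 3 · 49`, one class of elements of order 14, one of elements of order 28,
no element of order 56, `3 ∤ |C_G(y)|` for `y` of order 14: `l(B₀(C_G(x))) ≤ 3`.
-/

set_option autoImplicit false

open Cfsg Subgroup

namespace Cfsg.Agent.H642.Lb

universe u

variable {G : Type u} [Group G]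

/-- `l(B) ≤` the number of representatives of the `p`-regular classes. -/
theorem blockRank_le_reps [Finite G] {p : ℕ} (B : Set (IrrCharacter G)) {ι : Type*} [Fintype ι] (r : ι → G)
    (hR : ∀ g : G, ¬ p ∣ orderOf g → ∃ i, ∃ x : G, x * g * x⁻¹ = r i) : blockRank p B ≤ Fintype.card ι := by
  classical
  have := Fintype.ofFinite G
  have hf : Fintype (⊥ : Subgroup G) := Fintype.ofFinite _
  have hN : (⊥ : Subgroup G).Normal := inferInstance
  refine H642.SolvRank.blockRank_le (N := (⊥ : Subgroup G)) (θ := fun _ => 1)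
    Blocks.Basic.isIrrCharacter_one (fun _ _ => rfl) ?_ r ?_
  · intro χ _ h
    rw [Characters.Core.classInner_def] at h
    have h1 : ∑ g : (⊥ : Subgroup G), (χ : G → ℂ) g * (starRingEnd ℂ) 1 = (χ : G → ℂ) 1 := by
      rw [Fintype.sum_subsingleton _ (1 : (⊥ : Subgroup G)), map_one, mul_one]
      rfl
    rw [h1, mul_eq_zero] at h
    rcases h with h | h
    · exact (inv_ne_zero Characters.Core.card_ne_zero_complex) h
    · exact Blocks.Basic.irr_one_ne_zero χ.2 h
  · intro g hg
    obtain ⟨i, x, hx⟩ := hR g hg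
    exact ⟨i, 1, x, by rw [hx]; simp⟩

section reps

variable [Finite G] {x : G} (hx : orderOf x = 7)

include hx

theorem order_mul {g : G} (hg : g ∈ centralizer ({x} : Set G)) (h7 : ¬ 7 ∣ orderOf g) :
    orderOf (x * g) = 7 * orderOf g := by
  have hc : Commute x g := (mem_centralizer_singleton_iff.1 hg).symm
  have h7p : Nat.Prime 7 := by norm_num
  rw [hc.orderOf_mul_eq_mul_orderOf_of_coprime, hx]
  rw [hx]
  exact (Nat.Prime.coprime_iff_not_dvd h7p).2 h7

/-- conjugacy in the section -/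
theorem conj_of {n : ℕ} (hn : n = 2 ∨ n = 4) (hcj : ∀ g g' : G, orderOf g = 7 * n → orderOf g' = 7 * n → IsConj g g')
    (g g' : centralizer ({x} : Set G)) (hg : orderOf g = n) (hg' : orderOf g' = n) :
    ∃ c : centralizer ({x} : Set G), c * g * c⁻¹ = g' := by
  have h4 : n ∣ 4 := by rcases hn with rfl | rfl <;> norm_num
  have hn7 : ¬ 7 ∣ n := by rcases hn with rfl | rfl <;> norm_num
  have ho : orderOf (x * (g : G)) = 7 * n := by
    rw [order_mul hx g.2 (by rw [Subgroup.orderOf_coe, hg]; exact hn7), Subgroup.orderOf_coe, hg]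
  have ho' : orderOf (x * (g' : G)) = 7 * n := by
    rw [order_mul hx g'.2 (by rw [Subgroup.orderOf_coe, hg']; exact hn7), Subgroup.orderOf_coe, hg']
  obtain ⟨c, hc⟩ := isConj_iff.1 (hcj _ _ ho ho')
  have hx7 : x ^ 7 = 1 := by rw [← hx]; exact pow_orderOf_eq_one x
  have key : ∀ y : centralizer ({x} : Set G), orderOf y = n →
      (x * (y : G)) ^ 8 = x ∧ (x * (y : G)) ^ 21 = y := by
    intro y hy
    have hcm : Commute x (y : G) := (mem_centralizer_singleton_iff.1 y.2).symm
    have hy4 : (y : G) ^ 4 = 1 := by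
      apply orderOf_dvd_iff_pow_eq_one.1
      rw [Subgroup.orderOf_coe, hy]
      exact h4
    constructor
    · rw [hcm.mul_pow]
      have e1 : x ^ 8 = x := by rw [pow_succ, hx7, one_mul]
      have e2 : (y : G) ^ 8 = 1 := by rw [show 8 = 4 * 2 by norm_num, pow_mul, hy4, one_pow]
      rw [e1, e2, mul_one]
    · rw [hcm.mul_pow]
      have e1 : x ^ 21 = 1 := by rw [show 21 = 7 * 3 by norm_num, pow_mul, hx7, one_pow]
      have e2 : (y : G) ^ 21 = y := by rw [show 21 = 4 * 5 + 1 by norm_num, pow_succ, pow_mul, hy4, one_pow, one_mul]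
      rw [e1, e2, one_mul]
  have h1 : c * x * c⁻¹ = x := by
    have h : (c * (x * (g : G)) * c⁻¹) ^ 8 = (x * (g' : G)) ^ 8 := by rw [hc]
    rw [(key g' hg').1, conj_pow, (key g hg).1] at h
    exact h
  have h2 : c * (g : G) * c⁻¹ = g' := by
    have h : (c * (x * (g : G)) * c⁻¹) ^ 21 = (x * (g' : G)) ^ 21 := by rw [hc]
    rw [(key g' hg').2, conj_pow, (key g hg).2] at h
    exact h
  refine ⟨⟨c, mem_centralizer_singleton_iff.2 ?_⟩, Subtype.ext h2⟩
  calc c * x = c * x * c⁻¹ * c := by group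
    _ = x * c := by rw [h1]

end reps

/-- the elements of order three -/
theorem conj_three {C : Type*} [Group C] [Finite C] (h9 : ¬ 9 ∣ Nat.card C) {s g : C} (hs : orderOf s = 3)
    (hg : orderOf g = 3) : ∃ c : C, c * g * c⁻¹ = s ∨ c * g * c⁻¹ = s⁻¹ := by
  have h3 : Fact (Nat.Prime 3) := ⟨by norm_num⟩
  have hcard : ∀ y : C, orderOf y = 3 → Nat.card (zpowers y) = 3 ^ (Nat.card C).factorization 3 := by
    intro y hy
    have hd : 3 ∣ Nat.card C := by rw [← hy]; exact orderOf_dvd_natCard y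
    have h1 : (Nat.card C).factorization 3 = 1 := by
      have h2 : 1 ≤ (Nat.card C).factorization 3 :=
        (Nat.Prime.dvd_iff_one_le_factorization h3.out Nat.card_pos.ne').1 hd
      have h4 : ¬ 2 ≤ (Nat.card C).factorization 3 := by
        intro h
        exact h9 ((h3.out.pow_dvd_iff_le_factorization Nat.card_pos.ne').2 h)
      omega
    rw [h1, Nat.card_zpowers, hy, pow_one]
  let S : Sylow 3 C := Sylow.ofCard (zpowers s) (hcard s hs)
  let T : Sylow 3 C := Sylow.ofCard (zpowers g) (hcard g hg)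
  obtain ⟨c, hc⟩ := MulAction.exists_smul_eq C T S
  have hmem : c * g * c⁻¹ ∈ zpowers s := by
    have h1 : (c • T : Sylow 3 C) = S := hc
    have h2 : c * g * c⁻¹ ∈ ((c • T : Sylow 3 C) : Subgroup C) := ⟨g, mem_zpowers g, rfl⟩
    rw [h1] at h2
    exact h2
  refine ⟨c, ?_⟩
  obtain ⟨k, hk⟩ := mem_zpowers_iff.1 hmem
  have hs3 : s ^ (3 : ℤ) = 1 := by
    have := pow_orderOf_eq_one s
    rw [hs] at this
    exact_mod_cast this
  have hk3 : s ^ k = s ^ (k % 3) := by
    conv_lhs => rw [← Int.emod_add_mul_ediv k 3, zpow_add, zpow_mul, hs3, one_zpow, mul_one]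
  have hne : c * g * c⁻¹ ≠ 1 := by
    intro h
    have h1 : g = 1 := by
      have h2 : g = c⁻¹ * (c * g * c⁻¹) * c := by group
      rw [h2, h]
      group
    rw [h1, orderOf_one] at hg
    omega
  have h0 := Int.emod_nonneg k (show (3 : ℤ) ≠ 0 by norm_num)
  have h1 := Int.emod_lt_of_pos k (show (0 : ℤ) < 3 by norm_num)
  have h2 : k % 3 = 0 ∨ k % 3 = 1 ∨ k % 3 = 2 := by omega
  rw [← hk, hk3]
  rcases h2 with h2 | h2 | h2
  · exfalso
    apply hne
    rw [← hk, hk3, h2, zpow_zero]
  · left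
    rw [h2, zpow_one]
  · right
    rw [h2]
    have h5 : s ^ (2 : ℤ) * s = 1 := by
      rw [← hs3]
      group
    exact eq_inv_of_mul_eq_one_left h5

theorem rank_cent_le [Finite G] {M : Ideal AlgInt} (hM : IsPModular 7 M) {x : G} (hx : orderOf x = 7)
    (hc : Nat.card (centralizer ({x} : Set G)) = 1176)
    (h14 : ∀ g g' : G, orderOf g = 14 → orderOf g' = 14 → IsConj g g')
    (h28 : ∀ g g' : G, orderOf g = 28 → orderOf g' = 28 → IsConj g g')
    (h56 : ∀ g : G, orderOf g ≠ 56)
    (h3 : ∀ g : G, orderOf g = 14 → ¬ 3 ∣ Nat.card (centralizer ({g} : Set G))) :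
    blockRank 7 (principalBlock M (centralizer ({x} : Set G))) ≤ 3 := by
  classical
  have h7p : Nat.Prime 7 := by norm_num
  have h7f : Fact (Nat.Prime 7) := ⟨h7p⟩
  set C := centralizer ({x} : Set G) with hC
  -- at most five classes
  let rep : ℕ → C := fun n => if h : ∃ g : C, orderOf g = n then h.choose else 1
  have hrep : ∀ (n : ℕ) (g : C), orderOf g = n → orderOf (rep n) = n := by
    intro n g hg
    have h : ∃ g : C, orderOf g = n := ⟨g, hg⟩
    show orderOf (if h : ∃ g : C, orderOf g = n then h.choose else 1) = n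
    rw [dif_pos h]
    exact h.choose_spec
  have h5 : blockRank 7 (principalBlock M C) ≤ 5 := by
    have h := blockRank_le_reps (p := 7) (principalBlock M C) (ι := Fin 5)
      ![1, rep 2, rep 4, rep 3, (rep 3)⁻¹] ?_
    · rwa [Fintype.card_fin] at h
    intro g hg
    have hcop : Nat.Coprime (orderOf g) 49 :=
      (Nat.Coprime.pow_right 2 ((Nat.Prime.coprime_iff_not_dvd h7p).2 hg).symm)
    have hd : orderOf g ∣ 24 := by
      have h1 : orderOf g ∣ 24 * 49 := by
        have := orderOf_dvd_natCard g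
        rwa [hc] at this
      exact hcop.dvd_of_dvd_mul_right h1
    have h6 : ¬ 6 ∣ orderOf g := by
      intro h6
      obtain ⟨k, hk⟩ := h6
      have hk0 : k ≠ 0 := by
        rintro rfl
        exact (orderOf_pos g).ne' (by rw [hk])
      have ht : orderOf (g ^ (3 * k)) = 2 := by
        rw [orderOf_pow_of_dvd (by positivity) ⟨2, by rw [hk]; ring⟩, hk]
        rw [show 6 * k = 2 * (3 * k) by ring]
        exact Nat.mul_div_cancel _ (by positivity)
      have hs : orderOf (g ^ (2 * k)) = 3 := by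
        rw [orderOf_pow_of_dvd (by positivity) ⟨3, by rw [hk]; ring⟩, hk]
        rw [show 6 * k = 3 * (2 * k) by ring]
        exact Nat.mul_div_cancel _ (by positivity)
      have ho : orderOf (x * ((g ^ (3 * k) : C) : G)) = 14 := by
        rw [order_mul hx (g ^ (3 * k)).2 (by rw [Subgroup.orderOf_coe, ht]; norm_num), Subgroup.orderOf_coe, ht]
      apply h3 _ ho
      have hmem : ((g ^ (2 * k) : C) : G) ∈ centralizer ({x * ((g ^ (3 * k) : C) : G)} : Set G) := by
        rw [mem_centralizer_singleton_iff]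
        have e1 : ((g ^ (2 * k) : C) : G) * x = x * ((g ^ (2 * k) : C) : G) :=
          mem_centralizer_singleton_iff.1 (g ^ (2 * k)).2
        have e2 : ((g ^ (2 * k) : C) : G) * ((g ^ (3 * k) : C) : G) =
            ((g ^ (3 * k) : C) : G) * ((g ^ (2 * k) : C) : G) := by
          rw [← Subgroup.coe_mul, ← Subgroup.coe_mul, ← pow_add, ← pow_add, add_comm]
        rw [← mul_assoc, e1, mul_assoc, e2, mul_assoc]
      have h2 := orderOf_dvd_natCard (⟨_, hmem⟩ : centralizer ({x * ((g ^ (3 * k) : C) : G)} : Set G))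
      rwa [Subgroup.orderOf_mk, Subgroup.orderOf_coe, hs] at h2
    have h24 : orderOf g ≤ 24 := Nat.le_of_dvd (by norm_num) hd
    have hcase : orderOf g = 1 ∨ orderOf g = 2 ∨ orderOf g = 4 ∨ orderOf g = 3 ∨ orderOf g = 8 := by
      generalize orderOf g = o at *
      interval_cases o <;> first | omega | (exfalso; revert hd; decide) | (exfalso; revert h6; decide)
    rcases hcase with ho | ho | ho | ho | ho
    · refine ⟨0, 1, ?_⟩
      rw [orderOf_eq_one_iff.1 ho]
      show 1 * 1 * 1⁻¹ = (1 : C)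
      group
    · obtain ⟨c, hcc⟩ := conj_of hx (n := 2) (Or.inl rfl) h14 g (rep 2) ho (hrep 2 g ho)
      exact ⟨1, c, hcc⟩
    · obtain ⟨c, hcc⟩ := conj_of hx (n := 4) (Or.inr rfl) h28 g (rep 4) ho (hrep 4 g ho)
      exact ⟨2, c, hcc⟩
    · obtain ⟨c, hcc⟩ := conj_three (C := C) (by rw [hc]; norm_num) (s := rep 3) (g := g) (hrep 3 g ho) ho
      rcases hcc with hcc | hcc
      · exact ⟨3, c, hcc⟩
      · exact ⟨4, c, hcc⟩
    · exfalso
      apply h56 (x * (g : G))
      rw [order_mul hx g.2 (by rw [Subgroup.orderOf_coe, ho]; norm_num), Subgroup.orderOf_coe, ho]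
  -- the quotient
  have hxC : x ∈ C := by rw [hC, mem_centralizer_singleton_iff]
  let z : C := ⟨x, hxC⟩
  have hz : orderOf z = 7 := by rw [Subgroup.orderOf_mk, hx]
  set U : Subgroup C := zpowers z with hU
  have hUc : U ≤ Subgroup.center C := by
    rw [hU, Subgroup.zpowers_le, Subgroup.mem_center_iff]
    intro g
    exact Subtype.ext (Subgroup.mem_centralizer_singleton_iff.1 g.2)
  have hUn : U.Normal := ⟨fun a ha g => by
    rw [Subgroup.mem_center_iff.1 (hUc ha) g, mul_inv_cancel_right]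
    exact ha⟩
  have hUcard : Nat.card U = 7 := by rw [hU, Nat.card_zpowers, hz]
  have hUp : IsPGroup 7 U := IsPGroup.of_card (n := 1) (by rw [hUcard, pow_one])
  have hrk := H650.E27.blockRank_quot hM hUc hUp
  have hq : Nat.card (C ⧸ U) = 168 := by
    have h1 := Subgroup.card_eq_card_quotient_mul_card_subgroup U
    rw [hc, hUcard] at h1
    omega
  obtain ⟨P⟩ : Nonempty (Sylow 7 (C ⧸ U)) := inferInstance
  have hP : Nat.card (P : Subgroup (C ⧸ U)) = 7 := by
    have h1 := P.card_eq_multiplicity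
    rw [hq] at h1
    have h2 : (168 : ℕ).factorization 7 = 1 := by
      have h3 : 7 ∣ 168 := by norm_num
      have h4 : ¬ 7 ^ 2 ∣ 168 := by norm_num
      have h5 := (Nat.Prime.dvd_iff_one_le_factorization h7p (by norm_num : 168 ≠ 0)).1 h3
      have h6 : ¬ 2 ≤ (168 : ℕ).factorization 7 := fun h =>
        h4 ((h7p.pow_dvd_iff_le_factorization (by norm_num : 168 ≠ 0)).2 h)
      omega
    rw [h2, pow_one] at h1
    exact h1
  have hcyc : IsCyclic (P : Subgroup (C ⧸ U)) := isCyclic_of_prime_card hP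
  have hrc := H734.KB.rank_cyclic hM P hcyc (by rw [hq]; norm_num)
  have hdv := J2Type.SylowSeven.relIndex_dvd_of_card_prime (P : Subgroup (C ⧸ U)) h7p hP
  rw [← hrc, ← hrk] at hdv
  generalize blockRank 7 (principalBlock M C) = e at *
  have : e ∣ 6 := hdv
  interval_cases e <;> first | omega | (exfalso; revert this; decide)

end Cfsg.Agent.H642.Lb
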