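import Cfsg.Agent.H642.Lb.Ten
import Cfsg.Agent.H642.Lb.RankC
import Cfsg.Agent.H741.Lb.Defs
import Cfsg.Agent.H634.Cols
import Cfsg.Agent.H491.PB.Th
import Cfsg.Agent.H871.Th7.Main
import Cfsg.Agent.H399.Two.Th
import Cfsg.Agent.H653.ThE.P5
import Cfsg.Agent.H492.ThRat
import Cfsg.Agent.KFacts.Th.Main

/-!
# S4879, row (D): `Th`, `p = 7` (helper642)

The principal 7-block of `Th` contains characters of degrees `1, 30875, 61256, 2450240, 4881384, 51684750, 767637,
767637`, with values `1, 5, 6, -5, 4, -9, 3, 3` at the elements `x` of order 7; `∑ χ(1) χ(x) = 0` gives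
`k(B₀) ≥ 10`, and `l(B₀(C(x))) ≤ 3`, so `l(B₀) ≥ 7`.
-/

set_option autoImplicit false

open Cfsg Subgroup
open scoped ComplexConjugate

namespace Cfsg.Agent.H642.Lb.Th

open Cfsg.Agent.Blocks.Basic

universe u

theorem card_th : Nat.card Spor.Th = 90745943887872000 := H399.Two.Th.card_th

instance fin_th : Finite Spor.Th := H399.Two.Th.finite_th

instance seven_fact : Fact (Nat.Prime 7) := ⟨by norm_num⟩

/-- the order of a 7-element -/
theorem order_of_seven {g : Spor.Th} {k : ℕ} (h : orderOf g = 7 ^ k) (h1 : g ≠ 1) : orderOf g = 7 := by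
  rcases k with _ | _ | k
  · rw [pow_zero, orderOf_eq_one_iff] at h
    exact absurd h h1
  · rw [h]
    norm_num
  · exfalso
    apply H871.Th7.no49 (g ^ 7 ^ k)
    rw [orderOf_pow_of_dvd (by positivity) (by rw [h]; exact ⟨49, by ring⟩), h,
      show (7 : ℕ) ^ (k + 1 + 1) = 49 * 7 ^ k by ring]
    exact Nat.mul_div_cancel _ (by positivity)

theorem conj_seven {g g' : Spor.Th} (hg : orderOf g = 7) (hg' : orderOf g' = 7) : IsConj g g' :=
  (H871.Th7.conj7 g hg).trans (H871.Th7.conj7 g' hg').symm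

/-- a Sylow 7-subgroup -/
theorem exists_sylow : ∃ (P : Subgroup Spor.Th) (x : Spor.Th), Nat.card P = 49 ∧ orderOf x = 7 ∧
    ∀ y ∈ P, y ≠ 1 → IsConj x y := by
  obtain ⟨P⟩ : Nonempty (Sylow 7 Spor.Th) := inferInstance
  obtain ⟨x, hx⟩ := exists_prime_orderOf_dvd_card' (G := Spor.Th) 7 (by rw [card_th]; norm_num)
  refine ⟨P, x, ?_, hx, fun y hy hy1 => ?_⟩
  · have h7p : Nat.Prime 7 := by norm_num
    have h0 : (90745943887872000 : ℕ) ≠ 0 := by norm_num
    have h1 := P.card_eq_multiplicity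
    rw [card_th] at h1
    have h2 := (h7p.pow_dvd_iff_le_factorization (k := 2) h0).1 (by norm_num)
    have h3 : ¬ 3 ≤ (90745943887872000 : ℕ).factorization 7 := fun h => by
      have h4 := (h7p.pow_dvd_iff_le_factorization (k := 3) h0).2 h
      norm_num at h4
    have h5 : (90745943887872000 : ℕ).factorization 7 = 2 := by omega
    rw [h5] at h1
    exact h1
  · obtain ⟨k, hk⟩ := IsPGroup.iff_orderOf.1 P.isPGroup' ⟨y, hy⟩
    rw [Subgroup.orderOf_mk] at hk
    exact conj_seven hx (order_of_seven hk hy1)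

theorem mem_of {M : Ideal AlgInt} (hM : IsPModular 7 M) {χ : IrrCharacter Spor.Th} {d : ℕ}
    (h : charDegree (χ : Spor.Th → ℂ) = d) (hd : ¬ 7 ∣ d) : χ ∈ principalBlock M Spor.Th := by
  by_contra hc
  have h1 := H491.PB.Th.nb_7 M hM χ hc
  rw [h, pow_one] at h1
  exact hd h1

theorem exists_two : ∃ χ : IrrCharacter Spor.Th, charDegree (χ : Spor.Th → ℂ) = 2450240 := by
  obtain ⟨χ, hχ, -⟩ := H492.ThRat.val_2450240
  refine ⟨χ, ?_⟩
  rw [irr_one_eq_charDegree χ.2] at hχ
  exact_mod_cast hχ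

theorem exists_pair : ∃ χ χ' : IrrCharacter Spor.Th, χ ≠ χ' ∧ charDegree (χ : Spor.Th → ℂ) = 767637 ∧
    charDegree (χ' : Spor.Th → ℂ) = 767637 := by
  obtain ⟨θ, hθ, h1, -, -, h31⟩ := H653.ThE.exists_theta
  refine ⟨⟨θ, hθ⟩, ⟨fun g => conj (θ g), Characters.Core.isIrr_conj hθ⟩, ?_, ?_, ?_⟩
  · intro h
    have hfact : Fact (Nat.Prime 31) := ⟨by norm_num⟩
    obtain ⟨y, hy⟩ := exists_prime_orderOf_dvd_card' (G := Spor.Th) 31 (by rw [card_th]; norm_num)
    have h2 := congrFun (congrArg Subtype.val h) y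
    have h3 : conj (θ y) = θ y := h2.symm
    obtain ⟨r, hr⟩ := Complex.conj_eq_iff_real.1 h3
    have h4 := h31 y hy
    rw [hr] at h4
    have h5 : r ^ 2 + r + 8 = 0 := by exact_mod_cast h4
    nlinarith [sq_nonneg (2 * r + 1)]
  · have h2 := irr_one_eq_charDegree hθ
    rw [h1] at h2
    exact_mod_cast h2.symm
  · have h2 := irr_one_eq_charDegree (Characters.Core.isIrr_conj hθ)
    rw [h1, map_ofNat] at h2
    exact_mod_cast h2.symm

/-- the degrees -/
def D : Fin 8 → ℕ := ![1, 30875, 61256, 2450240, 4881384, 51684750, 767637, 767637]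

theorem D_inj : ∀ i j : Fin 8, i ≠ j → D i = D j → (i = 6 ∧ j = 7) ∨ (i = 7 ∧ j = 6) := by decide +kernel

theorem D_seven : ∀ i : Fin 8, ¬ 7 ∣ D i := by decide +kernel

theorem ten_le {M : Ideal AlgInt} (hM : IsPModular 7 M) : 10 ≤ Nat.card (principalBlock M Spor.Th) := by
  classical
  obtain ⟨P, x, hP, hx, hconj⟩ := exists_sylow
  choose v hv hd using exists_val P hP (by norm_num) hconj
  have hsq : ∀ χ : IrrCharacter Spor.Th, v χ ^ 2 ≤ 1176 := fun χ => by
    exact_mod_cast sq_le (hv χ) (H871.Th7.card7 x hx)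
  have hle : ∀ χ : IrrCharacter Spor.Th, -34 ≤ v χ ∧ v χ ≤ 34 := fun χ => by
    have := hsq χ
    constructor <;> nlinarith
  obtain ⟨χa, ha⟩ := H399.Two.Th.deg_a
  obtain ⟨χb, hb⟩ := H399.Two.Th.deg_b
  obtain ⟨χc, hc⟩ := H399.Two.Th.deg_c
  obtain ⟨χd, hd'⟩ := H399.Two.Th.deg_d
  obtain ⟨χe, he⟩ := exists_two
  obtain ⟨θ, θ', hne, ht, ht'⟩ := exists_pair
  let c : Fin 8 → IrrCharacter Spor.Th := ![⟨fun _ => 1, isIrrCharacter_one⟩, χb, χa, χe, χc, χd, θ, θ']
  have hone : charDegree ((⟨fun _ => 1, isIrrCharacter_one⟩ : IrrCharacter Spor.Th) : Spor.Th → ℂ) = 1 := by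
    have h2 := irr_one_eq_charDegree (isIrrCharacter_one (G := Spor.Th))
    exact_mod_cast h2.symm
  have hD : ∀ i, charDegree (c i : Spor.Th → ℂ) = D i := by
    intro i
    fin_cases i
    · exact hone
    · exact hb
    · exact ha
    · exact he
    · exact hc
    · exact hd'
    · exact ht
    · exact ht'
  have hinj : Function.Injective c := by
    intro i j hij
    by_contra hn
    have h1 : D i = D j := by rw [← hD i, ← hD j, hij]
    rcases D_inj i j hn h1 with ⟨rfl, rfl⟩ | ⟨rfl, rfl⟩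
    · exact hne hij
    · exact hne hij.symm
  have hval : ∀ i, v (c i) = (![1, 5, 6, -5, 4, -9, 3, 3] : Fin 8 → ℤ) i := by
    intro i
    have h1 := hd (c i)
    rw [hD i] at h1
    have h2 := hle (c i)
    generalize v (c i) = w at h1 h2
    fin_cases i
    · change ((49 : ℕ) : ℤ) ∣ ((1 : ℕ) : ℤ) - w at h1
      show w = 1
      omega
    · change ((49 : ℕ) : ℤ) ∣ ((30875 : ℕ) : ℤ) - w at h1
      show w = 5
      omega
    · change ((49 : ℕ) : ℤ) ∣ ((61256 : ℕ) : ℤ) - w at h1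
      show w = 6
      omega
    · change ((49 : ℕ) : ℤ) ∣ ((2450240 : ℕ) : ℤ) - w at h1
      show w = -5
      omega
    · change ((49 : ℕ) : ℤ) ∣ ((4881384 : ℕ) : ℤ) - w at h1
      show w = 4
      omega
    · change ((49 : ℕ) : ℤ) ∣ ((51684750 : ℕ) : ℤ) - w at h1
      show w = -9
      omega
    · change ((49 : ℕ) : ℤ) ∣ ((767637 : ℕ) : ℤ) - w at h1
      show w = 3
      omega
    · change ((49 : ℕ) : ℤ) ∣ ((767637 : ℕ) : ℤ) - w at h1
      show w = 3
      omega
  have hsum : ∑ i, (charDegree (c i : Spor.Th → ℂ) : ℤ) * v (c i) = -452760680 := by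
    rw [Finset.sum_congr rfl fun i _ => by rw [hD i, hval i]]
    decide +kernel
  refine card_ge hM (by rw [hx]) v hv c hinj (fun i => mem_of hM (hD i) (D_seven i)) ?_ ?_
  · rw [hsum]
    norm_num
  · intro ψ
    rw [hsum]
    have h1 := hd ψ
    obtain ⟨h2, h3⟩ := hle ψ
    have h4 : (0 : ℤ) ≤ (charDegree (ψ : Spor.Th → ℂ) : ℤ) := Int.natCast_nonneg _
    generalize v ψ = w at *
    generalize (charDegree (ψ : Spor.Th → ℂ) : ℤ) = d at *
    intro h5
    have h6 : ((49 : ℕ) : ℤ) ∣ d - w := h1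
    interval_cases w <;> omega

/-- **`l(B₀) ≥ 7` for `Th`, `p = 7`.** -/
theorem seven_le {M : Ideal AlgInt} (hM : IsPModular 7 M) : 7 ≤ blockRank 7 (principalBlock M Spor.Th) := by
  classical
  obtain ⟨x, hx⟩ := exists_prime_orderOf_dvd_card' (G := Spor.Th) 7 (by rw [card_th]; norm_num)
  have h10 := ten_le hM
  have hx1 : x ≠ 1 := by
    rintro rfl
    rw [orderOf_one] at hx
    omega
  have h3 : blockRank 7 (principalBlock M (centralizer ({x} : Set Spor.Th))) ≤ 3 :=
    rank_cent_le hM hx (H871.Th7.card7 x hx)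
      (fun g g' hg hg' => (H871.Th7.conj14 g hg).trans (H871.Th7.conj14 g' hg').symm)
      (fun g g' hg hg' => (H871.Th7.conj28 g hg).trans (H871.Th7.conj28 g' hg').symm)
      H871.Th7.no56 H871.Th7.c14
  have hk := H634.Cols.card_principal_eq hM {(1 : Spor.Th), x} ?_ ?_
  · rw [Finset.sum_pair (Ne.symm hx1),
      H650.E27.blockRank_centralizer_of_central (one_mem (Subgroup.center Spor.Th))] at hk
    omega
  · intro y hy
    rcases Finset.mem_insert.1 hy with rfl | hy
    · exact ⟨0, by rw [orderOf_one, pow_zero]⟩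
    · rw [Finset.mem_singleton.1 hy]
      exact ⟨1, by rw [hx, pow_one]⟩
  · rintro g ⟨k, hk⟩
    by_cases hg : g = 1
    · refine ⟨1, ⟨Finset.mem_insert_self _ _, by rw [hg]⟩, ?_⟩
      rintro y ⟨-, hy⟩
      rw [hg, isConj_one_right] at hy
      exact hy
    · have h7 := order_of_seven hk hg
      refine ⟨x, ⟨Finset.mem_insert_of_mem (Finset.mem_singleton_self _), conj_seven h7 hx⟩, ?_⟩
      rintro y ⟨hy, hyc⟩
      rcases Finset.mem_insert.1 hy with rfl | hy
      · exfalso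
        exact hg (isConj_one_left.1 hyc)
      · exact Finset.mem_singleton.1 hy

/-- a group between `Th` and its automorphism group -/
theorem equiv_of {G : Type u} [Group G] (T : Subgroup G) [T.Normal] (e : T ≃* Spor.Th)
    (hC : ∀ g : G, (∀ t ∈ T, Commute g t) → g = 1) : Nonempty (G ≃* Spor.Th) := by
  have htop : T = ⊤ := by
    rw [eq_top_iff]
    intro g _
    obtain ⟨k, hk⟩ := KFacts.Th.Main.inner ((e.symm.trans (MulAut.conjNormal g)).trans e)
    have h1 : ((e.symm k : T) : G)⁻¹ * g = 1 := by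
      apply hC
      intro t ht
      have h2 : ∀ t : T, MulAut.conjNormal g t = e.symm k * t * (e.symm k)⁻¹ := by
        intro t
        have h3 := DFunLike.congr_fun hk (e t)
        change e (MulAut.conjNormal g (e.symm (e t))) = k * e t * k⁻¹ at h3
        rw [MulEquiv.symm_apply_apply] at h3
        apply e.injective
        rw [h3, map_mul, map_mul, map_inv, MulEquiv.apply_symm_apply]
      have h4 := congrArg Subtype.val (h2 ⟨t, ht⟩)
      rw [MulAut.conjNormal_apply, Subgroup.coe_mul, Subgroup.coe_mul, Subgroup.coe_inv] at h4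
      change g * t * g⁻¹ = ((e.symm k : T) : G) * t * ((e.symm k : T) : G)⁻¹ at h4
      show ((e.symm k : T) : G)⁻¹ * g * t = t * (((e.symm k : T) : G)⁻¹ * g)
      have h5 : g * t = ((e.symm k : T) : G) * t * ((e.symm k : T) : G)⁻¹ * g := by
        rw [← h4, inv_mul_cancel_right]
      rw [mul_assoc, h5]
      group
    have h2 : g = ((e.symm k : T) : G) := by
      have := congrArg (((e.symm k : T) : G) * ·) h1
      simpa using this
    rw [h2]
    exact (e.symm k).2
  subst htop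
  exact ⟨Subgroup.topEquiv.symm.trans e⟩

/-- **ROW (D) of S4879.** -/
theorem row {M : Ideal AlgInt} (hM : IsPModular 7 M) : H741.Lb.Row.{u} 7 M Spor.IsoTh := by
  intro G _ _ T _ hC _ _ _ hT
  obtain ⟨e⟩ := hT
  obtain ⟨f⟩ := equiv_of T e hC
  rw [H590.RankSum.rank_congr f]
  exact seven_le hM

end Cfsg.Agent.H642.Lb.Th
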