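import Cfsg.Agent.H642.Lb.Th
import Cfsg.Agent.H732.VZ.Close
import Cfsg.Agent.H502.TO.Words

/-!
# S4879, `Th`, `p = 5`, `|P| = 125` (helper642)

The characters of degrees `1, 4881384, 4123, 61256, 2450240` of the principal 5-block are linearly independent on
the elements of orders `31, 19, 13, 1, 7`: `l(B₀) ≥ 5`.
-/

set_option autoImplicit false

open Cfsg Subgroup
open scoped ComplexConjugate

namespace Cfsg.Agent.H642.Lb

open Cfsg.Agent.Blocks.Basic

universe u

/-- characters linearly independent on the `p`-regular elements -/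
theorem le_blockRank_of {G : Type u} [Group G] [Finite G] {p n : ℕ} {B : Set (IrrCharacter G)}
    (χ : Fin n → IrrCharacter G) (hχ : ∀ i, χ i ∈ B)
    (h : ∀ t : Fin n → ℂ, (∀ g : G, ¬ p ∣ orderOf g → ∑ i, t i * (χ i : G → ℂ) g = 0) → ∀ i, t i = 0) :
    n ≤ blockRank p B := by
  classical
  have := Fintype.ofFinite G
  have hli : LinearIndependent ℂ (fun i => pRegularPart p (χ i : G → ℂ)) := by
    rw [Fintype.linearIndependent_iff]
    intro t ht
    refine h t fun g hg => ?_
    have h1 := congrFun ht g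
    rw [Finset.sum_apply, Pi.zero_apply] at h1
    rw [← h1]
    refine Finset.sum_congr rfl fun i _ => ?_
    rw [Pi.smul_apply, smul_eq_mul, pRegularPart, if_pos (show IsPRegular p g from hg)]
  have h1 := finrank_span_eq_card hli
  rw [Fintype.card_fin] at h1
  unfold blockRank
  rw [← h1]
  apply Submodule.finrank_mono
  rw [Submodule.span_le]
  rintro _ ⟨i, rfl⟩
  exact Submodule.subset_span ⟨χ i, hχ i, rfl⟩

/-- `t * y * t⁻¹ = y ^ k`, `k` a generator modulo `p`: the powers of `y` are conjugate -/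
theorem conj_of_gen {G : Type u} [Group G] {p k : ℕ} {y g : G} (hy : orderOf y = p) (hg : g * y * g⁻¹ = y ^ k)
    (hk : ∀ r < p, r ≠ 0 → ∃ n < p, k ^ n % p = r) (hp : 0 < p) : ∀ z ∈ zpowers y, z ≠ 1 → IsConj y z := by
  have hpow : ∀ n : ℕ, g ^ n * y * (g ^ n)⁻¹ = y ^ k ^ n := by
    intro n
    induction n with
    | zero => simp
    | succ n ih =>
      have h1 : g ^ (n + 1) * y * (g ^ (n + 1))⁻¹ = g * (g ^ n * y * (g ^ n)⁻¹) * g⁻¹ := by
        rw [pow_succ']
        group
      rw [h1, ih]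
      have h2 : g * y ^ k ^ n * g⁻¹ = (g * y * g⁻¹) ^ k ^ n := (conj_pow).symm
      rw [h2, hg, ← pow_mul, pow_succ']
  intro z hz hz1
  have hfin : 0 < orderOf y := by rw [hy]; exact hp
  obtain ⟨m, hm⟩ := (Subgroup.mem_zpowers_iff).1 hz
  obtain ⟨r, hr⟩ : ∃ r : ℕ, y ^ r = z := by
    have hyn : y ^ ((orderOf y : ℕ) : ℤ) = 1 := by rw [zpow_natCast, pow_orderOf_eq_one]
    refine ⟨(m % (orderOf y : ℤ)).toNat, ?_⟩
    rw [← hm, ← zpow_natCast, Int.toNat_of_nonneg (Int.emod_nonneg _ (by exact_mod_cast hfin.ne'))]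
    exact zpow_mod_orderOf y m
  have hr' : y ^ (r % p) = z := by rw [← hy, pow_mod_orderOf, hr]
  have hr0 : r % p ≠ 0 := by
    intro h
    rw [h, pow_zero] at hr'
    exact hz1 hr'.symm
  obtain ⟨n, -, hn⟩ := hk (r % p) (Nat.mod_lt _ hp) hr0
  refine isConj_iff.2 ⟨g ^ n, ?_⟩
  rw [hpow, ← hr', ← hn, ← hy, pow_mod_orderOf]

namespace Th

theorem gen13 : ∀ r < 13, r ≠ 0 → ∃ n < 13, 6 ^ n % 13 = r := by decide

theorem exists_four : ∃ χ : IrrCharacter Spor.Th, charDegree (χ : Spor.Th → ℂ) = 4123 := by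
  obtain ⟨χ, hχ, -⟩ := H492.ThRat.val_4123
  refine ⟨χ, ?_⟩
  rw [irr_one_eq_charDegree χ.2] at hχ
  exact_mod_cast hχ

theorem mem_five {M : Ideal AlgInt} (hM : IsPModular 5 M) {χ : IrrCharacter Spor.Th} {d : ℕ}
    (h : charDegree (χ : Spor.Th → ℂ) = d) (hd : ¬ 25 ∣ d) : χ ∈ principalBlock M Spor.Th := by
  by_contra hc
  have h1 := H491.PB.Th.nb_5 M hM χ hc
  rw [h] at h1
  exact hd h1

/-- **`l(B₀) ≥ 5` for `Th`, `p = 5`.** -/
theorem five_le {M : Ideal AlgInt} (hM : IsPModular 5 M) : 5 ≤ blockRank 5 (principalBlock M Spor.Th) := by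
  classical
  have h31f : Fact (Nat.Prime 31) := ⟨by norm_num⟩
  have h19f : Fact (Nat.Prime 19) := ⟨by norm_num⟩
  -- the elements
  obtain ⟨P, x, hP, hx, hconj⟩ := exists_sylow
  choose v7 hv7 hd7 using exists_val P hP (by norm_num) hconj
  have hle7 : ∀ χ : IrrCharacter Spor.Th, -34 ≤ v7 χ ∧ v7 χ ≤ 34 := fun χ => by
    have : v7 χ ^ 2 ≤ 1176 := by exact_mod_cast sq_le (hv7 χ) (H871.Th7.card7 x hx)
    constructor <;> nlinarith
  obtain ⟨y31, hy31⟩ := exists_prime_orderOf_dvd_card' (G := Spor.Th) 31 (by rw [card_th]; norm_num)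
  obtain ⟨y19, hy19⟩ := exists_prime_orderOf_dvd_card' (G := Spor.Th) 19 (by rw [card_th]; norm_num)
  obtain ⟨y13, g, hy13, hg⟩ := H502.TO.exists_thirteen
  choose v19 hv19 hd19 using exists_val (zpowers y19) (n := 19) (by rw [Nat.card_zpowers, hy19]) (by norm_num)
    (x := y19) (fun z hz hz1 => H653.ThE.conj19 hy19 (by
      have h1 : orderOf z ∣ 19 := by rw [← hy19]; exact orderOf_dvd_of_mem_zpowers hz
      rcases (Nat.dvd_prime (by norm_num)).1 h1 with h2 | h2
      · exact absurd (orderOf_eq_one_iff.1 h2) hz1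
      · exact h2))
  choose v13 hv13 hd13 using exists_val (zpowers y13) (n := 13) (by rw [Nat.card_zpowers, hy13]) (by norm_num)
    (x := y13) (conj_of_gen hy13 hg gen13 (by norm_num))
  -- the characters
  obtain ⟨χa, ha⟩ := H399.Two.Th.deg_a
  obtain ⟨χc, hc⟩ := H399.Two.Th.deg_c
  obtain ⟨χe, he⟩ := exists_two
  obtain ⟨χf, hf⟩ := exists_four
  have hone : charDegree ((⟨fun _ => 1, isIrrCharacter_one⟩ : IrrCharacter Spor.Th) : Spor.Th → ℂ) = 1 := by
    have h2 := irr_one_eq_charDegree (isIrrCharacter_one (G := Spor.Th))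
    exact_mod_cast h2.symm
  -- vanishing
  have z31 : ∀ χ : IrrCharacter Spor.Th, 31 ∣ charDegree (χ : Spor.Th → ℂ) → (χ : Spor.Th → ℂ) y31 = 0 :=
    fun χ h => H732.VZ.zero_of_defect (p := 31) (a := 1) (n := 2927288512512000) (by norm_num)
      (by rw [card_th]; norm_num) (by norm_num) χ (by rwa [pow_one]) (by rw [hy31])
  have z19 : ∀ χ : IrrCharacter Spor.Th, 19 ∣ charDegree (χ : Spor.Th → ℂ) → (χ : Spor.Th → ℂ) y19 = 0 :=
    fun χ h => H732.VZ.zero_of_defect (p := 19) (a := 1) (n := 4776102309888000) (by norm_num)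
      (by rw [card_th]; norm_num) (by norm_num) χ (by rwa [pow_one]) (by rw [hy19])
  have z13 : ∀ χ : IrrCharacter Spor.Th, 13 ∣ charDegree (χ : Spor.Th → ℂ) → (χ : Spor.Th → ℂ) y13 = 0 :=
    fun χ h => H732.VZ.zero_of_defect (p := 13) (a := 1) (n := 6980457222144000) (by norm_num)
      (by rw [card_th]; norm_num) (by norm_num) χ (by rwa [pow_one]) (by rw [hy13])
  have hc19 : (v19 χc : ℤ) ≠ 0 := by
    intro h
    have h1 := hd19 χc
    rw [hc, h] at h1
    omega
  have hf13 : (v13 χf : ℤ) ≠ 0 := by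
    intro h
    have h1 := hd13 χf
    rw [hf, h] at h1
    omega
  have ha7 : v7 χa = 6 := by
    have h1 := hd7 χa
    have h2 := hle7 χa
    rw [ha] at h1
    omega
  have he7 : v7 χe = -5 := by
    have h1 := hd7 χe
    have h2 := hle7 χe
    rw [he] at h1
    omega
  refine le_blockRank_of ![⟨fun _ => 1, isIrrCharacter_one⟩, χc, χf, χa, χe] ?_ ?_
  · intro i
    fin_cases i
    · exact mem_five hM hone (by norm_num)
    · exact mem_five hM hc (by norm_num)
    · exact mem_five hM hf (by norm_num)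
    · exact mem_five hM ha (by norm_num)
    · exact mem_five hM he (by norm_num)
  · intro t ht
    have E : ∀ g : Spor.Th, ¬ 5 ∣ orderOf g → t 0 + t 1 * (χc : Spor.Th → ℂ) g + t 2 * (χf : Spor.Th → ℂ) g +
        t 3 * (χa : Spor.Th → ℂ) g + t 4 * (χe : Spor.Th → ℂ) g = 0 := by
      intro g hg
      have h1 := ht g hg
      rw [Fin.sum_univ_five] at h1
      have e : t 0 * (1 : ℂ) + t 1 * (χc : Spor.Th → ℂ) g + t 2 * (χf : Spor.Th → ℂ) g +
        t 3 * (χa : Spor.Th → ℂ) g + t 4 * (χe : Spor.Th → ℂ) g = 0 := h1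
      rwa [mul_one] at e
    have e31 := E y31 (by rw [hy31]; norm_num)
    rw [z31 χc (by rw [hc]; norm_num), z31 χf (by rw [hf]; norm_num), z31 χa (by rw [ha]; norm_num),
      z31 χe (by rw [he]; norm_num)] at e31
    have t0 : t 0 = 0 := by linear_combination e31
    have e19 := E y19 (by rw [hy19]; norm_num)
    rw [z19 χf (by rw [hf]; norm_num), z19 χa (by rw [ha]; norm_num), z19 χe (by rw [he]; norm_num), hv19, t0] at e19
    have t1 : t 1 = 0 := by
      have h1 : t 1 * (v19 χc : ℂ) = 0 := by linear_combination e19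
      rcases mul_eq_zero.1 h1 with h2 | h2
      · exact h2
      · exact absurd (by exact_mod_cast h2) hc19
    have e13 := E y13 (by rw [hy13]; norm_num)
    rw [z13 χa (by rw [ha]; norm_num), z13 χe (by rw [he]; norm_num), hv13 χf, t0, t1] at e13
    have t2 : t 2 = 0 := by
      have h1 : t 2 * (v13 χf : ℂ) = 0 := by linear_combination e13
      rcases mul_eq_zero.1 h1 with h2 | h2
      · exact h2
      · exact absurd (by exact_mod_cast h2) hf13
    have e1 := E 1 (by rw [orderOf_one]; norm_num)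
    rw [irr_one_eq_charDegree χa.2, irr_one_eq_charDegree χe.2, ha, he, t0, t1, t2] at e1
    have e7 := E x (by rw [hx]; norm_num)
    rw [hv7 χa, hv7 χe, ha7, he7, t0, t1, t2] at e7
    push_cast at e1 e7
    have t3 : t 3 = 0 := by
      have h1 : (5 * 61256 + 6 * 2450240 : ℂ) * t 3 = 0 := by linear_combination 5 * e1 + 2450240 * e7
      rcases mul_eq_zero.1 h1 with h2 | h2
      · norm_num at h2
      · exact h2
    have t4 : t 4 = 0 := by
      rw [t3] at e7
      linear_combination (-1 / 5 : ℂ) * e7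
    intro i
    fin_cases i
    · exact t0
    · exact t1
    · exact t2
    · exact t3
    · exact t4

/-- **The row `Th`, `p = 5` of S4879.** -/
theorem rowN_five {M : Ideal AlgInt} (hM : IsPModular 5 M) (n : ℕ) : H741.Lb.RowN.{u} 5 n M Spor.IsoTh := by
  intro G _ _ T _ hC _ _ _ hT
  obtain ⟨e⟩ := hT
  obtain ⟨f⟩ := equiv_of T e hC
  rw [H590.RankSum.rank_congr f]
  exact five_le hM

end Th

end Cfsg.Agent.H642.Lb
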